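import Mathlib
import Cfsg.Agent.TcData.Suz.I1782.Rel0
import Cfsg.Agent.TcData.Suz.I1782.Up

set_option autoImplicit false
set_option maxRecDepth 100000
set_option linter.all false

namespace Cfsg.Agent.TcData.Suz.I1782

open Cfsg.Spor Cfsg.Agent.Lib.TcFacts Cfsg.Agent.Lib.TcBits Cfsg.Agent.Lib.TcPres Cfsg.Spor.Suz Cfsg.Agent.TcData.Suz

theorem hc : ∀ x ∈ nodesL, ∀ y ∈ nodesL, ∀ j, j < 11 →
    chkW ((FreeGroup.of x * FreeGroup.of y) ^ coxLabel edges x y) j = true := by
  intro x hx y hy
  simp only [nodesL, List.mem_cons, List.not_mem_nil, or_false] at hx hy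
  rcases hx with rfl | rfl | rfl | rfl | rfl | rfl | rfl <;> rcases hy with rfl | rfl | rfl | rfl | rfl | rfl | rfl
  exacts [c_a_a,
    c_a_b,
    c_a_c,
    c_a_d,
    c_a_e,
    c_a_f,
    c_a_g,
    c_b_a,
    c_b_b,
    c_b_c,
    c_b_d,
    c_b_e,
    c_b_f,
    c_b_g,
    c_c_a,
    c_c_b,
    c_c_c,
    c_c_d,
    c_c_e,
    c_c_f,
    c_c_g,
    c_d_a,
    c_d_b,
    c_d_c,
    c_d_d,
    c_d_e,
    c_d_f,
    c_d_g,
    c_e_a,
    c_e_b,
    c_e_c,
    c_e_d,
    c_e_e,
    c_e_f,
    c_e_g,
    c_f_a,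
    c_f_b,
    c_f_c,
    c_f_d,
    c_f_e,
    c_f_f,
    c_f_g,
    c_g_a,
    c_g_b,
    c_g_c,
    c_g_d,
    c_g_e,
    c_g_f,
    c_g_g]

theorem he0 : ∀ i, i < extra.length → ∀ j, j < 11 → chkW (extra.getD i 1) j = true := by
  intro i hi
  have hl : extra.length = 5 := rfl
  rw [hl] at hi
  interval_cases i
  exacts [e_0, e_1, e_2, e_3, e_4]

theorem he : ∀ r ∈ extra, ∀ j, j < 11 → chkW r j = true := by
  intro r hr
  obtain ⟨i, hi, rfl⟩ := List.getElem_of_mem hr
  have := he0 i hi
  rwa [List.getD_eq_getElem _ _ hi] at this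

theorem hR : ∀ r ∈ RR, FreeGroup.lift (genPerm pr) r = 1 :=
  lift_of_checks hnodes hv (fun x hx y hy => of_chkW (hc x hx y hy)) (fun r hr => of_chkW (he r hr))

/-- The representation. -/
noncomputable def Phi : PresentedGroup RR →* Equiv.Perm ℕ := repOf RR pr hR

/-- The generators, in the free group. -/
noncomputable def gensFG : List (FreeGroup Gen) := gensL.map FreeGroup.of

/-- The generators of the subgroup, as a list. -/
noncomputable def SL : List (FreeGroup Gen) := [a, b, c, d, e, f]

theorem hSL {Q : FreeGroup Gen → Prop} (hsl : ∀ s ∈ SL, Q s) : ∀ s ∈ SS, Q s := by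
  intro s hs
  simp only [SS, Set.mem_insert_iff, Set.mem_singleton_iff] at hs
  rcases hs with rfl | rfl | rfl | rfl | rfl | rfl
  exacts [hsl _ (by simp [SL]),
    hsl _ (by simp [SL]),
    hsl _ (by simp [SL]),
    hsl _ (by simp [SL]),
    hsl _ (by simp [SL]),
    hsl _ (by simp [SL])]

theorem hfixL : ∀ s ∈ SL, wordApply (sgnProg pr) s.toWord 1 = 1 := by decide +kernel

theorem hfix : ∀ h ∈ HH, Phi h 0 = 0 := fix_of_words hR hv (hSL hfixL)

theorem hSLmem : ∀ s ∈ SL, PresentedGroup.mk RR s ∈ HH := by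
  intro s hs
  simp only [SL, List.mem_cons, List.not_mem_nil, or_false] at hs
  rcases hs with rfl | rfl | rfl | rfl | rfl | rfl
  exacts [mem_map_closure (by simp), mem_map_closure (by simp), mem_map_closure (by simp), mem_map_closure (by simp), mem_map_closure (by simp), mem_map_closure (by simp)]

theorem hgens : ∀ r ∈ gensFG, PresentedGroup.mk RR r ∈ (⊤ : Subgroup (PresentedGroup RR)) :=
  fun _ _ => trivial

/-- A generation of the orbit of the base point. -/
def G0 : ℕ := nat_lit 0x3

theorem G0_eq : grow pr (gensFG.map FreeGroup.toWord) 1 (2 ^ 0) = G0 := by decide +kernel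

theorem G0_s : Sound Phi ⊤ 0 G0 :=
  G0_eq ▸ sound_grow hR hv gensFG hgens 1 (2 ^ 0) (sound_single _ 0)

/-- A generation of the orbit of the base point. -/
def G1 : ℕ := nat_lit 0x41004c777

theorem G1_eq : grow pr (gensFG.map FreeGroup.toWord) 1 G0 = G1 := by decide +kernel

theorem G1_s : Sound Phi ⊤ 0 G1 :=
  G1_eq ▸ sound_grow hR hv gensFG hgens 1 G0 G0_s

/-- A generation of the orbit of the base point. -/
def G2 : ℕ := nat_lit 0x200000000000000000000140000001300000000000670000be0000003f02ff00207e7ff09effdffffff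

theorem G2_eq : grow pr (gensFG.map FreeGroup.toWord) 1 G1 = G2 := by decide +kernel

theorem G2_s : Sound Phi ⊤ 0 G2 :=
  G2_eq ▸ sound_grow hR hv gensFG hgens 1 G1 G1_s

/-- A generation of the orbit of the base point. -/
def G3 : ℕ := nat_lit 0x400000000000200200000000000800400000000000000000000000000000180000001300000000a100000000080000200082028000001000000c00400000000000000000040000000000000e002800000780c0026a000004000100a04b800008400c050000003000500040070180000715800079c0de000d045c3f218361c3800001c2b000579c001b5c1fd6fc1ebf7ee71ef70008eeb86ff037effeff7dffefefff81dfdfcffffffffffff3ffffffffffffffffffffffffffffffff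

theorem G3_eq : grow pr (gensFG.map FreeGroup.toWord) 1 G2 = G3 := by decide +kernel

theorem G3_s : Sound Phi ⊤ 0 G3 :=
  G3_eq ▸ sound_grow hR hv gensFG hgens 1 G2 G2_s

/-- A generation of the orbit of the base point. -/
def G4 : ℕ := nat_lit 0x60018610ad7fff1667fbffb07edeb817073f976fde6efefeffffcffffffffffdfa9ffc97e7dfbffffffffffc67fffff7ffffff1fd13f5fffdfffffffd7dfffffdbffffffffffdffffdffffff7ebeebfffff3fffffffffff18ffffffdffffe3bf86b77ffffffffffffffdfffffddbffffffffffffffffffff7f7cffffffffffffffd2fffffd7da76deffffffffffffffffffffffffffffffffffffffffffffd7ffffdf7fffffffffffffffffffffffffffffffffffffffffffffffffffffffffffffffffffffffffffffffffffffffffffffffffffffffffffffffffffffff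

theorem G4_eq : grow pr (gensFG.map FreeGroup.toWord) 1 G3 = G4 := by decide +kernel

theorem G4_s : Sound Phi ⊤ 0 G4 :=
  G4_eq ▸ sound_grow hR hv gensFG hgens 1 G3 G3_s

/-- A generation of the orbit of the base point. -/
def G5 : ℕ := nat_lit 0x3fffffffffffffffffffffffffffffffffffffffffffffffffffffffffffffffffffffffffffffffffffffffffffffffffffffffffffffffffffffffffffffffffffffffffffffffffffffffffffffffffffffffffffffffffffffffffffffffffffffffffffffffffffffffffffffffffffffffffffffffffffffffffffffffffffffffffffffffffffffffffffffffffffffffffffffffffffffffffffffffffffffffffffffffffffffffffffffffffffffffffffffffffffffffffffffffffffffffffffffffffffffffffffffffffffffffffffffffffffffffffffff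

theorem G5_eq : grow pr (gensFG.map FreeGroup.toWord) 1 G4 = G5 := by decide +kernel

theorem G5_s : Sound Phi ⊤ 0 G5 :=
  G5_eq ▸ sound_grow hR hv gensFG hgens 1 G4 G4_s

/-- A generation of the orbit of the base point. -/
def G6 : ℕ := nat_lit 0x3fffffffffffffffffffffffffffffffffffffffffffffffffffffffffffffffffffffffffffffffffffffffffffffffffffffffffffffffffffffffffffffffffffffffffffffffffffffffffffffffffffffffffffffffffffffffffffffffffffffffffffffffffffffffffffffffffffffffffffffffffffffffffffffffffffffffffffffffffffffffffffffffffffffffffffffffffffffffffffffffffffffffffffffffffffffffffffffffffffffffffffffffffffffffffffffffffffffffffffffffffffffffffffffffffffffffffffffffffffffffffffff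

theorem G6_eq : grow pr (gensFG.map FreeGroup.toWord) 1 G5 = G6 := by decide +kernel

theorem G6_s : Sound Phi ⊤ 0 G6 :=
  G6_eq ▸ sound_grow hR hv gensFG hgens 1 G5 G5_s

theorem Gfull : G6 = 2 ^ 1782 - 1 := by decide +kernel

theorem hs : ∀ i, i < 1782 → ∃ g, Phi g 0 = i := exists_of_sound (Gfull ▸ G6_s)

theorem bij : HH.index = 1782 ∧ Function.Injective (betaF HH Phi hfix) ∧
    (∀ q, betaF HH Phi hfix q < 1782) ∧ ∀ i, i < 1782 → ∃ q, betaF HH Phi hfix q = i :=
  index_eq_and_bij HH hfix index_le'.1 index_le'.2 hs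

/-- A mask of an orbit. -/
def O1 : ℕ := nat_lit 0xc7ff80df3ffffffffff80ffffffffff7fff7fb1147fdff2ce7fdffffffffffffffffffffffffff987e18dffffbffffffffffffff7fe7e03f27c31757ffb73fff1c01c7dda79bf3ffffffffffffffffffffff8637e19ffeffdffffffffffffff8fc3f01f9ee3b8b1ffebf3bfffc0c03dc6fb2ffd9d7fffffffffffffff867fc5ff9fffffffffff187801fb8b8b9fe33afff30062b8bbdafffffffffe2fcbacfffffffdb8001c51772dafc6002eeeffffffcb96b3ffffe580045bbbbb00777ffffe596b7fffd802eee0effff2dbfff85dc6fff7fff96effffff7ffffffffffe

theorem O1_grow : grow pr (SL.map FreeGroup.toWord) 6 (2 ^ 1) = O1 := by decide +kernel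

theorem O1_sound : Sound Phi HH 1 O1 :=
  O1_grow ▸ sound_grow hR hv SL hSLmem 6 (2 ^ 1) (sound_single _ _)

theorem O1_closedL : ∀ s ∈ SL, wordApply (sgnProg pr) s.toWord O1 = O1 := by decide +kernel

theorem O1_closed : Closed Phi HH O1 := closed_of_words hR hv (hSL O1_closedL)

theorem O1_p : O1.testBit 1 = true := by decide +kernel

theorem O1_lt : O1 < 2 ^ 2 ^ 11 := by decide +kernel

theorem O1_card : sumRange O1.testBit 11 0 = 1365 := by decide +kernel

theorem O1_orbit : ∃ q : PresentedGroup RR ⧸ HH,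
    (betaF HH Phi hfix '' MulAction.orbit HH q = {i | O1.testBit i = true}) ∧
      (MulAction.orbit HH q).ncard = 1365 :=
  orbit_of_mask hfix bij.2.1 bij.2.2.2 (p := 1) (by decide) O1_sound O1_closed O1_p O1_lt O1_card

/-- A mask of an orbit. -/
def O2 : ℕ := nat_lit 0x338007f20c00000000007f00000000008000804eeb80200d31802000000000000000000000000006781e72000040000000000000080181fc0d83ce8a80048c000e3fe382258640c000000000000000000000079c81e600100200000000000000703c0fe0611c474e00140c40003f3fc23904d00262800000000000000079803a00600000000000e787fe047474601cc5000cff9d4744250000000001d034530000000247ffe3ae88d25039ffd11100000034694c00001a7ffba44444ff88800001a694800027fd111f10000d240007a2390008000691000000800000000000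

theorem O2_grow : grow pr (SL.map FreeGroup.toWord) 6 (2 ^ 47) = O2 := by decide +kernel

theorem O2_sound : Sound Phi HH 47 O2 :=
  O2_grow ▸ sound_grow hR hv SL hSLmem 6 (2 ^ 47) (sound_single _ _)

theorem O2_closedL : ∀ s ∈ SL, wordApply (sgnProg pr) s.toWord O2 = O2 := by decide +kernel

theorem O2_closed : Closed Phi HH O2 := closed_of_words hR hv (hSL O2_closedL)

theorem O2_p : O2.testBit 47 = true := by decide +kernel

theorem O2_lt : O2 < 2 ^ 2 ^ 11 := by decide +kernel

theorem O2_card : sumRange O2.testBit 11 0 = 416 := by decide +kernel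

theorem O2_orbit : ∃ q : PresentedGroup RR ⧸ HH,
    (betaF HH Phi hfix '' MulAction.orbit HH q = {i | O2.testBit i = true}) ∧
      (MulAction.orbit HH q).ncard = 416 :=
  orbit_of_mask hfix bij.2.1 bij.2.2.2 (p := 47) (by decide) O2_sound O2_closed O2_p O2_lt O2_card

end Cfsg.Agent.TcData.Suz.I1782
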